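import Groth.Agent.CurvSt.K760.Iface
import Groth.Agent.Hopf.K502.EtaleLift
import Groth.Agent.S2195
import Groth.Agent.Pi1A.QfUnramAlg
import Mathlib.RingTheory.TensorProduct.Quotient
import Mathlib.RingTheory.Artinian.Ring

/-!
# Algebra for simple covers of the projective line
* `finrank_le`: a finite algebra with reduced local rings outside one point, where the local ring has length at most
  two, has at most one more than the number of points as its dimension.
* `eval_discr_ne_zero`: the discriminant does not vanish at a point with reduced fibre.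
* `dvd_prod`: a squarefree polynomial with all its roots among the `b i` divides `∏ (x - b i)`.
-/

set_option autoImplicit false

universe u

open Polynomial IsLocalRing TensorProduct

namespace K376.SimpAlg

theorem finrank_le {k D : Type u} [Field k] [CommRing D] [Algebra k D] [Module.Finite k D]
    (P : Ideal D) [P.IsPrime] (hP : Module.finrank k (Localization.AtPrime P) ≤ 2)
    (hred : ∀ (Q : Ideal D) [Q.IsPrime], Q ≠ P → IsReduced (Localization.AtPrime Q)) :
    Module.finrank k D ≤ Module.finrank k (D ⧸ nilradical D) + 1 := by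
  have hArt : IsArtinianRing D := IsArtinianRing.of_finite k D
  have hsurj : Function.Surjective (algebraMap D (Localization.AtPrime P)) :=
    IsArtinianRing.localization_surjective P.primeCompl _
  have hfin : Module.Finite k (Localization.AtPrime P) :=
    Module.Finite.of_surjective (IsScalarTower.toAlgHom k D (Localization.AtPrime P)).toLinearMap hsurj
  let N : Submodule k D := (nilradical D).restrictScalars k
  have h1 : Module.finrank k (D ⧸ nilradical D) + Module.finrank k N = Module.finrank k D :=
    N.finrank_quotient_add_finrank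
  let M : Submodule k (Localization.AtPrime P) := (maximalIdeal (Localization.AtPrime P)).restrictScalars k
  have h2 : Module.finrank k (Localization.AtPrime P ⧸ M) + Module.finrank k M =
      Module.finrank k (Localization.AtPrime P) := M.finrank_quotient_add_finrank
  have h3 : 0 < Module.finrank k (Localization.AtPrime P ⧸ M) := by
    have : Nontrivial (Localization.AtPrime P ⧸ M) := by
      refine Submodule.Quotient.nontrivial_iff.2 ?_
      intro h
      have : (1 : Localization.AtPrime P) ∈ M := by rw [h]; trivial
      exact (Ideal.ne_top_iff_one _).1 (maximalIdeal.isMaximal (Localization.AtPrime P)).ne_top this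
    exact Module.finrank_pos
  have h4 : Module.finrank k N ≤ Module.finrank k M := by
    let f : N →ₗ[k] M := LinearMap.restrict (IsScalarTower.toAlgHom k D (Localization.AtPrime P)).toLinearMap
      (fun x hx => by
        have hx' : IsNilpotent x := hx
        have h5 : IsNilpotent (algebraMap D (Localization.AtPrime P) x) := hx'.map _
        exact (IsLocalRing.mem_maximalIdeal _).2 (fun hu => by
          obtain ⟨n, hn⟩ := h5
          have h6 : IsUnit (algebraMap D (Localization.AtPrime P) x ^ n) := hu.pow n
          rw [hn] at h6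
          exact not_isUnit_zero h6))
    refine LinearMap.finrank_le_finrank_of_injective (f := f) ?_
    rw [injective_iff_map_eq_zero]
    rintro ⟨x, hx⟩ h0
    have hx' : IsNilpotent x := hx
    have h7 : algebraMap D (Localization.AtPrime P) x = 0 := congrArg Subtype.val h0
    have h8 : x = 0 := by
      refine eq_zero_of_localization x ?_
      intro Q hQ
      by_cases hQP : Q = P
      · subst hQP
        exact h7
      · have := hred Q hQP
        exact (hx'.map (algebraMap D (Localization.AtPrime Q))).eq_zero
    exact Subtype.ext h8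
  omega

theorem finrank_quot_le {k C : Type u} [Field k] [CommRing C] [Algebra k C] (I : Ideal C)
    (h : Module.finrank k (C ⧸ I) ≤ Module.finrank k ((C ⧸ I) ⧸ nilradical (C ⧸ I)) + 1) :
    Module.finrank k (C ⧸ I) ≤ Module.finrank k (C ⧸ I.radical) + 1 := by
  refine h.trans (le_of_eq ?_)
  congr 1
  have h1 : nilradical (C ⧸ I) = I.radical.map (Ideal.Quotient.mk I) := by
    have h2 := Ideal.map_radical_of_surjective (f := Ideal.Quotient.mk I) Ideal.Quotient.mk_surjective
      (I := I) (by rw [Ideal.mk_ker])
    rw [h2, Ideal.map_quotient_self]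
    rfl
  rw [h1]
  exact (DoubleQuot.quotQuotEquivQuotOfLEₐ k (Ideal.le_radical (I := I))).toLinearEquiv.finrank_eq

theorem finrank_quot_le_of_isReduced {k C : Type u} [Field k] [CommRing C] [Algebra k C] (I : Ideal C)
    [IsReduced (C ⧸ I)] : Module.finrank k (C ⧸ I) ≤ Module.finrank k (C ⧸ I.radical) + 1 := by
  have h : I.radical = I := ((Ideal.isRadical_iff_quotient_reduced I).2 inferInstance).radical
  rw [h]
  omega

/-- The discriminant does not vanish at a point with reduced fibre. -/
theorem eval_discr_ne_zero_aux {k B : Type u} [Field k] [IsAlgClosed k] [CommRing B] [Algebra k[X] B]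
    [Module.Finite k[X] B] [Module.Free k[X] B] {ι : Type} [Fintype ι] [DecidableEq ι] (b : Module.Basis ι k[X] B) (c : k)
    (hred : IsReduced (B ⧸ Ideal.span {algebraMap k[X] B (X - C c)})) :
    (Algebra.discr k[X] b).eval c ≠ 0 := by
  let I : Ideal k[X] := Ideal.span {X - C c}
  have hI : I.map (algebraMap k[X] B) = Ideal.span {algebraMap k[X] B (X - C c)} := by
    rw [Ideal.map_span, Set.image_singleton]
  have hmax : I.IsMaximal := PrincipalIdealRing.isMaximal_of_irreducible (irreducible_X_sub_C c)
  let _ : Field (k[X] ⧸ I) := Ideal.Quotient.field I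
  have hac : IsAlgClosed (k[X] ⧸ I) :=
    IsAlgClosed.of_ringEquiv k (k[X] ⧸ I) (Polynomial.quotientSpanXSubCAlgEquiv c).symm.toRingEquiv
  have hred' : IsReduced ((k[X] ⧸ I) ⊗[k[X]] B) := by
    have : IsReduced (B ⧸ I.map (algebraMap k[X] B)) := by rw [hI]; exact hred
    have e : (k[X] ⧸ I) ⊗[k[X]] B ≃+* B ⧸ I.map (algebraMap k[X] B) :=
      (Algebra.TensorProduct.comm k[X] (k[X] ⧸ I) B).toRingEquiv.trans
        (Algebra.TensorProduct.quotIdealMapEquivTensorQuot B I).symm.toRingEquiv
    exact isReduced_of_injective e e.injective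
  have h1 : Algebra.FormallyEtale (k[X] ⧸ I) ((k[X] ⧸ I) ⊗[k[X]] B) :=
    K502.EtaleLift.formallyEtale_of_isReduced _ _
  have hfp : Algebra.FinitePresentation (k[X] ⧸ I) ((k[X] ⧸ I) ⊗[k[X]] B) :=
    Algebra.FinitePresentation.of_finiteType.1 inferInstance
  have h2 : Algebra.Etale (k[X] ⧸ I) ((k[X] ⧸ I) ⊗[k[X]] B) := ⟨inferInstance, inferInstance⟩
  have h3 := (Groth.Agent.S2195.result (b.baseChange (k[X] ⧸ I))).1 h2
  rw [Groth.Agent.Pi1A.QfUnramAlg.discr_baseChange] at h3
  intro h4
  apply h3.ne_zero
  have h5 : Algebra.discr k[X] b ∈ I := by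
    rw [Ideal.mem_span_singleton, dvd_iff_isRoot]
    exact h4
  exact Ideal.Quotient.eq_zero_iff_mem.2 h5

/-- The discriminant does not vanish at a point with reduced fibre. -/
theorem eval_discr_ne_zero {k B : Type u} [Field k] [IsAlgClosed k] [CommRing B] [Algebra k[X] B]
    [Module.Finite k[X] B] [Module.Free k[X] B] {ι : Type*} [Fintype ι] [DecidableEq ι]
    (b : Module.Basis ι k[X] B) (c : k)
    (hred : IsReduced (B ⧸ Ideal.span {algebraMap k[X] B (X - C c)})) :
    (Algebra.discr k[X] b).eval c ≠ 0 := by
  have h := eval_discr_ne_zero_aux (b.reindex (Fintype.equivFin ι)) c hred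
  rwa [Module.Basis.coe_reindex, Algebra.discr_reindex] at h

theorem finite_quot {k B : Type u} [Field k] [CommRing B] [Algebra k[X] B] [Algebra k B] [IsScalarTower k k[X] B]
    [Module.Finite k[X] B] (c : k) : Module.Finite k (B ⧸ Ideal.span {algebraMap k[X] B (X - C c)}) := by
  have hw : (algebraMap k (B ⧸ Ideal.span {algebraMap k[X] B (X - C c)})).comp (evalRingHom c) =
      (Ideal.Quotient.mk (Ideal.span {algebraMap k[X] B (X - C c)})).comp (algebraMap k[X] B) := by
    apply RingHom.ext
    intro p
    obtain ⟨q, hq⟩ : (X - C c) ∣ p - C (p.eval c) := by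
      rw [dvd_iff_isRoot]
      simp
    change algebraMap k (B ⧸ _) (p.eval c) = Ideal.Quotient.mk _ (algebraMap k[X] B p)
    have h1 : algebraMap k (B ⧸ Ideal.span {algebraMap k[X] B (X - C c)}) (p.eval c) =
        Ideal.Quotient.mk _ (algebraMap k[X] B (C (p.eval c))) := by
      rw [IsScalarTower.algebraMap_apply k B, IsScalarTower.algebraMap_apply k k[X] B]
      rfl
    rw [h1, eq_comm, ← sub_eq_zero, ← map_sub, ← map_sub, hq, map_mul]
    exact Ideal.Quotient.eq_zero_iff_mem.2 (Ideal.mul_mem_right _ _ (Ideal.mem_span_singleton_self _))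
  have h2 : ((Ideal.Quotient.mk (Ideal.span {algebraMap k[X] B (X - C c)})).comp (algebraMap k[X] B)).Finite :=
    (RingHom.Finite.of_surjective _ Ideal.Quotient.mk_surjective).comp
      (RingHom.finite_algebraMap.2 inferInstance)
  rw [← hw] at h2
  exact RingHom.finite_algebraMap.1 (RingHom.Finite.of_comp_finite h2)

theorem dvd_prod {k : Type u} [Field k] [IsAlgClosed k] (p : k[X]) (hp : Squarefree p) {r : ℕ} (b : Fin r → k)
    (h : ∀ c, p.eval c = 0 → ∃ i, b i = c) : p ∣ ∏ i, (X - C (b i)) := by
  have hp0 : p ≠ 0 := hp.ne_zero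
  have h1 : p.roots.Nodup := nodup_roots (PerfectField.separable_iff_squarefree.2 hp)
  have h2 : p = C p.leadingCoeff * (p.roots.map fun a => X - C a).prod :=
    (IsAlgClosed.splits p).eq_prod_roots
  have h3 : (p.roots.map fun a => X - C a).prod ∣ ∏ i, (X - C (b i)) := by
    have h4 : p.roots ≤ Finset.univ.val.map b := by
      rw [Multiset.le_iff_subset h1]
      intro a ha
      obtain ⟨i, hi⟩ := h a ((mem_roots hp0).1 ha)
      exact Multiset.mem_map.2 ⟨i, Finset.mem_univ i, hi⟩
    have h5 := Multiset.prod_dvd_prod_of_le (Multiset.map_le_map (f := fun a => (X - C a : k[X])) h4)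
    rw [Multiset.map_map] at h5
    exact h5
  rw [h2]
  have hu : IsUnit (C p.leadingCoeff) := isUnit_C.2 (IsUnit.mk0 _ (leadingCoeff_ne_zero.2 hp0))
  exact (hu.mul_left_dvd).2 h3

end K376.SimpAlg
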