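import Groth.Agent.CurvSt.K376.SimpAlg
import Groth.Agent.Lefpen.H723.P1Pt
import Groth.Agent.Lefpen.H108.OrdIso
import Groth.Agent.Lefpen.H370.OrdQuadConv
import Groth.Agent.Lefpen.H704.OneSing
import Groth.Agent.Vancyc.H881.QuadAlg
import Groth.Agent.S1628
import Groth.Agent.S0558
import Groth.Agent.Fdesc.BCChart

/-!
# Fibres of a morphism to the projective line, in the two standard charts
-/

set_option autoImplicit false

universe u

open CategoryTheory CategoryTheory.Limits AlgebraicGeometry Polynomial IsLocalRing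

namespace K376.SimpFib

open Groth.Agent.Lefpen.H723.P1Pt LefPen

variable {k : Type u} [Field k]

/-- The chart `[1 : t]` resp. `[t : 1]` of the line. -/
noncomputable def v (a : Fin (1 + 1)) (R : Type u) [CommRing R] :
    Spec (CommRingCat.of R[X]) ⟶ CohB1.ProjSpace 1 R :=
  Spec.map (CommRingCat.ofHom (Groth.Agent.Sga4B.P1Hyper.w R)) ≫ Groth.Agent.Sga5.ProjSmooth.chart 1 R a

theorem eval_v (a : Fin (1 + 1)) (c : k) :
    Spec.map (CommRingCat.ofHom (evalRingHom c)) ≫ v a k = pt a c := by
  rw [v, pt, ← Category.assoc, ← Spec.map_comp, ← CommRingCat.ofHom_comp]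
  congr 3
  apply MvPolynomial.ringHom_ext
  · intro x
    simp [Groth.Agent.Sga4B.P1Hyper.w]
  · intro i
    simp [Groth.Agent.Sga4B.P1Hyper.w]

/-- The constants in the fibre. -/
noncomputable abbrev cst (B : Type u) [CommRing B] [Algebra k[X] B] (c : k) :
    k →+* B ⧸ Ideal.span {algebraMap k[X] B (X - C c)} :=
  (Ideal.Quotient.mk (Ideal.span {algebraMap k[X] B (X - C c)})).comp ((algebraMap k[X] B).comp C)

theorem isPushout_pt (B : Type u) [CommRing B] [Algebra k[X] B] (c : k) :
    IsPushout (CommRingCat.ofHom (algebraMap k[X] B)) (CommRingCat.ofHom (evalRingHom c))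
      (CommRingCat.ofHom (Ideal.Quotient.mk (Ideal.span {algebraMap k[X] B (X - C c)})))
      (CommRingCat.ofHom (cst B c)) := by
  have hw : ∀ p : k[X], Ideal.Quotient.mk (Ideal.span {algebraMap k[X] B (X - C c)}) (algebraMap k[X] B p) =
      cst B c (p.eval c) := by
    intro p
    obtain ⟨q, hq⟩ : (X - C c) ∣ p - C (p.eval c) := by
      rw [dvd_iff_isRoot]
      simp
    change _ = Ideal.Quotient.mk _ (algebraMap k[X] B (C (p.eval c)))
    rw [← sub_eq_zero, ← map_sub, ← map_sub, hq, map_mul]
    exact Ideal.Quotient.eq_zero_iff_mem.2 (Ideal.mul_mem_right _ _ (Ideal.mem_span_singleton_self _))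
  refine ⟨⟨?_⟩, ⟨PushoutCocone.IsColimit.mk _ (fun s => CommRingCat.ofHom
    (Ideal.Quotient.lift (Ideal.span {algebraMap k[X] B (X - C c)}) s.inl.hom ?_)) ?_ ?_ ?_⟩⟩
  · apply CommRingCat.hom_ext
    apply RingHom.ext
    intro p
    exact hw p
  · have h1 : ∀ p : k[X], s.inl.hom (algebraMap k[X] B p) = s.inr.hom (p.eval c) := fun p =>
      congr($(s.condition).hom p)
    intro b hb
    obtain ⟨e, rfl⟩ := Ideal.mem_span_singleton'.1 hb
    rw [map_mul, h1]
    simp
  · intro s
    apply CommRingCat.hom_ext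
    apply RingHom.ext
    intro b
    rfl
  · intro s
    have h1 : ∀ p : k[X], s.inl.hom (algebraMap k[X] B p) = s.inr.hom (p.eval c) := fun p =>
      congr($(s.condition).hom p)
    apply CommRingCat.hom_ext
    apply RingHom.ext
    intro x
    change s.inl.hom (algebraMap k[X] B (C x)) = _
    rw [h1, eval_C]
  · intro s m h1 h2
    apply CommRingCat.hom_ext
    apply RingHom.ext
    intro b
    obtain ⟨b, rfl⟩ := Ideal.Quotient.mk_surjective b
    exact congr($(h1).hom b)

/-- The fibre of a morphism to the line, in a chart. -/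
theorem exists_iso {Y Z : Scheme.{u}} {m : Z ⟶ Y} {s : Z ⟶ Spec (CommRingCat.of k)}
    {ρ : Y ⟶ CohB1.ProjSpace 1 k} (a : Fin (1 + 1)) (c : k) (h : IsPullback m s ρ (pt a c))
    (B : Type u) [CommRing B] [Algebra k[X] B] (j : Spec (CommRingCat.of B) ⟶ Y)
    (hj : IsPullback j (Spec.map (CommRingCat.ofHom (algebraMap k[X] B))) ρ (v a k)) :
    ∃ e : Spec (CommRingCat.of (B ⧸ Ideal.span {algebraMap k[X] B (X - C c)})) ≅ Z,
      e.hom ≫ s = Spec.map (CommRingCat.ofHom (cst B c)) := by
  rw [← eval_v] at h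
  let t : Z ⟶ Spec (CommRingCat.of B) := hj.lift m (s ≫ Spec.map (CommRingCat.ofHom (evalRingHom c))) (by
    rw [Category.assoc]; exact h.w)
  have h1 : t ≫ j = m := hj.lift_fst _ _ _
  have h2 : t ≫ Spec.map (CommRingCat.ofHom (algebraMap k[X] B)) =
      s ≫ Spec.map (CommRingCat.ofHom (evalRingHom c)) := hj.lift_snd _ _ _
  rw [← h1] at h
  have h3 := IsPullback.of_right h h2 hj
  have h4 := isPullback_SpecMap_of_isPushout _ _ _ _ (isPushout_pt B c)
  exact ⟨h4.isoIsPullback _ _ h3, h4.isoIsPullback_hom_snd _ _ h3⟩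

theorem isReduced_of_iso {D : Type u} [CommRing D] {Z : Scheme.{u}} (s : Z ⟶ Spec (CommRingCat.of k)) [Smooth s]
    (e : Spec (CommRingCat.of D) ≅ Z) : IsReduced D := by
  have h1 : AlgebraicGeometry.IsReduced Z := by
    have : ∀ x : Z, _root_.IsReduced (Z.presheaf.stalk x) := fun x => Groth.Agent.S1628.isReduced_stalk_of_smooth s x
    exact isReduced_of_isReduced_stalk Z
  have h2 : AlgebraicGeometry.IsReduced (Spec (CommRingCat.of D)) := isReduced_of_isOpenImmersion e.hom
  exact (affine_isReduced_iff (CommRingCat.of D)).1 h2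

theorem toStalk_spec {D : Type u} [CommRing D] [Algebra k D] (z : Spec (CommRingCat.of D)) :
    LefPen.toStalk k (Spec.map (CommRingCat.ofHom (algebraMap k D))) z =
      (StructureSheaf.toStalk D z).hom.comp (algebraMap k D) := by
  ext c
  have h1 := congr($(Scheme.ΓSpecIso_inv_naturality (CommRingCat.ofHom (algebraMap k D))).hom c)
  change ((Spec (CommRingCat.of D)).presheaf.germ ⊤ z trivial).hom
    ((Spec.map (CommRingCat.ofHom (algebraMap k D))).appTop.hom
      ((Scheme.ΓSpecIso (CommRingCat.of k)).inv.hom c)) = _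
  refine (congrArg _ h1.symm).trans ?_
  rfl

/-- The dimension of a local ring of a finite algebra. -/
theorem finrank_stalk {D : Type u} [CommRing D] [Algebra k D] (z : PrimeSpectrum D) :
    letI := (LefPen.toStalk k (Spec.map (CommRingCat.ofHom (algebraMap k D)))
      (show Spec (CommRingCat.of D) from z)).toAlgebra
    Module.finrank k ((Spec (CommRingCat.of D)).presheaf.stalk z) =
      Module.finrank k (Localization.AtPrime z.asIdeal) := by
  let _ := (LefPen.toStalk k (Spec.map (CommRingCat.ofHom (algebraMap k D))) z).toAlgebra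
  let _ : Algebra D ((Spec (CommRingCat.of D)).presheaf.stalk z) := (StructureSheaf.toStalk D z).hom.toAlgebra
  have htow : IsScalarTower k D ((Spec (CommRingCat.of D)).presheaf.stalk z) :=
    IsScalarTower.of_algebraMap_eq' (toStalk_spec z)
  have hloc : IsLocalization.AtPrime ((Spec (CommRingCat.of D)).presheaf.stalk z) z.asIdeal :=
    StructureSheaf.IsLocalization.to_stalk D z
  let e : Localization.AtPrime z.asIdeal ≃ₐ[D] (Spec (CommRingCat.of D)).presheaf.stalk z :=
    IsLocalization.algEquiv z.asIdeal.primeCompl _ _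
  exact (e.restrictScalars k).toLinearEquiv.finrank_eq.symm

/-- A finite algebra with one double point. -/
theorem finrank_le_of_iso [IsAlgClosed k] (D : Type u) [CommRing D] [Algebra k D] [Module.Finite k D]
    {Z : Scheme.{u}} (s : Z ⟶ Spec (CommRingCat.of k)) (e : Spec (CommRingCat.of D) ≅ Z)
    (he : e.hom ≫ s = Spec.map (CommRingCat.ofHom (algebraMap k D))) (y : Z)
    (h1 : {y' | SmoothAt s y'} = ({y}ᶜ : Set Z)) (h2 : IsOrdQuadSing k 0 s y) :
    Module.finrank k D ≤ Module.finrank k (D ⧸ nilradical D) + 1 := by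
  have hN : IsNoetherianRing D := IsNoetherianRing.of_finite k D
  have hlft : LocallyOfFiniteType s := by
    have h3 : s = e.inv ≫ Spec.map (CommRingCat.ofHom (algebraMap k D)) := by rw [← he, e.inv_hom_id_assoc]
    have h4 : LocallyOfFiniteType (Spec.map (CommRingCat.ofHom (algebraMap k D))) := by
      rw [HasRingHomProperty.Spec_iff (P := @LocallyOfFiniteType)]
      exact RingHom.FiniteType.of_finite (RingHom.finite_algebraMap.2 inferInstance)
    rw [h3]
    infer_instance
  let z : PrimeSpectrum D := e.inv y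
  have hz : e.hom z = y := by
    change e.hom (e.inv y) = y
    rw [← Scheme.Hom.comp_apply, e.inv_hom_id]
    rfl
  have h3 : IsOrdQuadSing k 0 (Spec.map (CommRingCat.ofHom (algebraMap k D))) z :=
    Groth.Agent.Lefpen.H108.OrdIso.isOrdQuadSing_of_iso 0 _ s e he z (by rw [hz]; exact h2)
  refine K376.SimpAlg.finrank_le z.asIdeal ?_ ?_
  · have h4 := Groth.Agent.Lefpen.H370.OrdQuadConv.isOrdQuadSing_of_lefPen h3
    have h5 := finrank_stalk (k := k) z
    let _ := (LefPen.toStalk k (Spec.map (CommRingCat.ofHom (algebraMap k D))) z).toAlgebra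
    have hNs : IsNoetherianRing ((Spec (CommRingCat.of D)).presheaf.stalk z) := inferInstance
    have h6 := (Groth.Agent.Vancyc.H881.QuadAlg.finrank_of_isOrdQuadSing k
      ((Spec (CommRingCat.of D)).presheaf.stalk z) h4).2
    rw [← h5, h6]
  · intro Q hQ hQz
    let z' : PrimeSpectrum D := ⟨Q, hQ⟩
    have h5 : e.hom z' ≠ y := by
      intro h
      apply hQz
      have h6 : z' = z := e.hom.homeomorph.injective (h.trans hz.symm)
      exact congrArg PrimeSpectrum.asIdeal h6
    have h6 : SmoothAt s (e.hom z') := by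
      have : e.hom z' ∈ ({y}ᶜ : Set Z) := h5
      rw [← h1] at this
      exact this
    rw [Groth.Agent.Lefpen.H704.OneSing.smoothAt_iff_isRegularLocalRing] at h6
    have h7 : IsDomain (Z.presheaf.stalk (e.hom z')) := Groth.Agent.S0558.result _
    obtain ⟨e'⟩ := Groth.Agent.Fdesc.BCChart.nonempty_stalkEquiv e.hom z'
    exact isReduced_of_injective e'.symm e'.symm.injective

end K376.SimpFib
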