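import Groth.Agent.CurvSt.K376.SimpFib
import Groth.Agent.S4020
import Groth.Agent.S0219
import Groth.Agent.S10829
import Groth.Agent.S9829
import Groth.Agent.CalgB.ProjField
import Groth.Agent.Lefpen.H723.PencilSmooth
import Groth.Agent.Lefpen.H711.BaseReg
import Groth.Agent.Lefpen.H9.PencilRed
import Groth.Agent.Vanish.K911.Geo
import Groth.Agent.Divis.BlowUpFormal
import Groth.Agent.Sga4h.BidGeoP1

/-!
# Every smooth proper curve in characteristic zero is a simple cover of the projective line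
`main : DiscStmt → SimpleStmt` (job 186, node HURW-SIMPLE).
-/

set_option autoImplicit false

universe u

open CategoryTheory CategoryTheory.Limits AlgebraicGeometry Polynomial IsLocalRing

namespace K376.SimpMain

open K760.Hurw LefPen Groth.Agent.Lefpen.H723.P1Pt Groth.Agent.Lefpen.H723.PencilGeom
open Groth.Agent.Lefpen.H723.PencilSmooth

theorem isEff_top (T : Scheme.{u}) : BlowUp.IsEffCartierIdeal (⊤ : T.IdealSheafData) := by
  intro x
  obtain ⟨U, hU, hx, -⟩ := exists_isAffineOpen_mem_and_subset (x := x) (U := (⊤ : T.Opens)) trivial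
  exact ⟨⟨U, hU⟩, hx, 1, one_mem _, by simp⟩

theorem isSimpMor_iso {k : Type u} [Field k] {X X' : Scheme.{u}} (e : X ⟶ X') [IsIso e]
    (Φ : X' ⟶ CohB1.ProjSpace 1 k) {r : ℕ} {b : Fin r → k} (h : IsSimpMor k Φ b) : IsSimpMor k (e ≫ Φ) b := by
  have hfin := h.fin
  have hpb : ∀ {T : Scheme.{u}} {P : Scheme.{u}} (j : P ⟶ X) (p : P ⟶ T) (v : T ⟶ CohB1.ProjSpace 1 k),
      IsPullback j p (e ≫ Φ) v → IsPullback (j ≫ e) p Φ v := by
    intro T P j p v hj
    refine IsPullback.of_iso hj (Iso.refl _) (asIso e) (Iso.refl _) (Iso.refl _) ?_ ?_ ?_ ?_ <;> simp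
  exact ⟨inferInstance, fun B _ _ j hj => h.simp0 B (j ≫ e) (hpb _ _ _ hj),
    fun B _ _ j hj => h.inf B (j ≫ e) (hpb _ _ _ hj)⟩

variable {k : Type u} [Field k] [IsAlgClosed k] {r : ℕ} {X X' : Scheme.{u}} {i : X ⟶ CohB1.ProjSpace r k}
  {F G : Form r k 1} {b : X' ⟶ X} {ρ : X' ⟶ CohB1.ProjSpace 1 k}

theorem isFinite_rho [IsClosedImmersion i] [IrreducibleSpace X]
    [SmoothOfRelativeDimension 1 (i ≫ CohB1.ProjSpace.toSpec r k)]
    (hL : IsLefschetzPencil k 1 i 1 F G) (hρ : LefMon.IsPencilFibration i F G b ρ)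
    (hdim : topologicalKrullDim X' = 1) : IsFinite ρ := by
  have hT := hL.2.1
  have hne := members_ne_bot (n := 1) hL
  have h0 := isIntegral_total hT hρ
  have hpr := isProper_rho hρ
  have h3 := Groth.Agent.Ega3B.ProjProper.isProper_toSpec 1 k
  refine Groth.Agent.S0219.result k X' (CohB1.ProjSpace 1 k) (ρ ≫ CohB1.ProjSpace.toSpec 1 k)
    (CohB1.ProjSpace.toSpec 1 k) ρ rfl hdim.le ?_
  intro Z hZ _
  have hZ' : Z = Set.univ := by
    rw [irreducibleComponents_eq_singleton] at hZ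
    exact hZ
  subst hZ'
  by_contra hcon
  rw [Set.not_nontrivial_iff] at hcon
  have hgen := rho_genericPoint (n := 1) hT hne hρ
  have hsurj : ∀ y : CohB1.ProjSpace 1 k, y ∈ ρ.base '' Set.univ := by
    intro y
    have h4 : IsClosed (ρ.base '' Set.univ) := ρ.isClosedMap _ isClosed_univ
    exact (Groth.Agent.Sga4h.BidGeoP1.genPt_specializes k 1 y).mem_closed h4 ⟨genericPoint X', trivial, hgen⟩
  have hsub : Subsingleton (CohB1.ProjSpace 1 k) := ⟨fun x y => hcon (hsurj x) (hsurj y)⟩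
  have h5 := Groth.Agent.S10829.result k 1
  have h6 : topologicalKrullDim (CohB1.ProjSpace 1 k) ≤ 0 :=
    topologicalKrullDim_zero_of_discreteTopology _
  rw [h5] at h6
  exact absurd h6 (by decide)

instance isOpenImmersion_v (a : Fin (1 + 1)) (R : Type u) [CommRing R] : IsOpenImmersion (SimpFib.v a R) := by
  have h1 : IsIso (CommRingCat.ofHom (Groth.Agent.Sga4B.P1Hyper.w R)) := by
    have := (RingEquiv.ofBijective _ (Groth.Agent.Sga4B.P1Hyper.w_bijective R)).toCommRingCatIso
    exact (ConcreteCategory.isIso_iff_bijective _).2 (Groth.Agent.Sga4B.P1Hyper.w_bijective R)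
  rw [SimpFib.v]
  infer_instance

omit [IsAlgClosed k] in
theorem genPt_mem_range (a : Fin (1 + 1)) :
    Groth.Agent.Sga5.ProjConn.genPt 1 k ∈ Set.range (SimpFib.v a k) := by
  have h1 : IsIso (CommRingCat.ofHom (Groth.Agent.Sga4B.P1Hyper.w k)) :=
    (ConcreteCategory.isIso_iff_bijective _).2 (Groth.Agent.Sga4B.P1Hyper.w_bijective k)
  let z : Spec (CommRingCat.of (MvPolynomial (Fin 1) k)) := ⟨⊥, Ideal.isPrime_bot⟩
  refine ⟨(inv (Spec.map (CommRingCat.ofHom (Groth.Agent.Sga4B.P1Hyper.w k)))) z, ?_⟩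
  rw [SimpFib.v, ← Scheme.Hom.comp_apply, IsIso.inv_hom_id_assoc]
  exact Groth.Agent.Sga4h.BidGeoP1.chart_bot k 1 a z rfl

omit [IsAlgClosed k] in
/-- The chart algebra of a dominant morphism from an integral scheme. -/
theorem isDomain_chart [IsIntegral X'] (a : Fin (1 + 1)) (B : Type u) [CommRing B] [Algebra k[X] B]
    (j : Spec (CommRingCat.of B) ⟶ X') (hgen : ρ (genericPoint X') = Groth.Agent.Sga5.ProjConn.genPt 1 k)
    (hj : IsPullback j (Spec.map (CommRingCat.ofHom (algebraMap k[X] B))) ρ (SimpFib.v a k)) :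
    IsOpenImmersion j ∧ IsDomain B := by
  have hj' : IsOpenImmersion j := MorphismProperty.of_isPullback hj.flip (isOpenImmersion_v a k)
  refine ⟨hj', ?_⟩
  obtain ⟨z, hz⟩ := genPt_mem_range (k := k) a
  obtain ⟨w, hw, -⟩ := Scheme.Pullback.exists_preimage_pullback (f := ρ) (g := SimpFib.v a k)
    (genericPoint X') z (by rw [hgen, hz])
  have hne : Nonempty (Spec (CommRingCat.of B)) := ⟨hj.isoPullback.inv w⟩
  have h1 : IsIntegral (Spec (CommRingCat.of B)) := isIntegral_of_isOpenImmersion j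
  exact (affine_isIntegral_iff (CommRingCat.of B)).1 h1

theorem isIntegrallyClosed_chart {B : Type u} [CommRing B] [IsDomain B]
    (j : Spec (CommRingCat.of B) ⟶ X') [IsOpenImmersion j] (g : X' ⟶ Spec (CommRingCat.of k)) [Smooth g] :
    IsIntegrallyClosed B := by
  refine IsIntegrallyClosed.of_localization_maximal fun P _ hP => ?_
  have h1 : j (⟨P, hP.isPrime⟩ : PrimeSpectrum B) ∈ g.smoothLocus := by
    rw [Scheme.Hom.smoothLocus_eq_top]
    trivial
  have h2 := (Groth.Agent.VarietyA.SmoothReg.mem_smoothLocus_iff_of_perfectField g _).1 h1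
  have h3 := Groth.Agent.S9829.result (X'.presheaf.stalk (j (⟨P, hP.isPrime⟩ : PrimeSpectrum B)))
  obtain ⟨e⟩ := Groth.Agent.Fdesc.BCChart.nonempty_stalkEquiv j ⟨P, hP.isPrime⟩
  exact IsIntegrallyClosed.of_equiv e

/-- Simple covers from Lefschetz pencils. -/
theorem core (hD : DiscStmt.{u}) [CharZero k] [IsClosedImmersion i] [IrreducibleSpace X]
    [SmoothOfRelativeDimension 1 (i ≫ CohB1.ProjSpace.toSpec r k)]
    (hL : IsLefschetzPencil k 1 i 1 F G) (hρ : LefMon.IsPencilFibration i F G b ρ)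
    (hF : Transversal k 1 1 (secToSpec i {F})) (hG : Transversal k 1 1 (secToSpec i {G}))
    (g : X' ⟶ Spec (CommRingCat.of k)) [Smooth g] (hdim : topologicalKrullDim X' = 1) :
    ∃ (n : ℕ) (β : Fin n → k), IsSimpMor k ρ β ∧ ∀ i, β i ≠ 0 := by
  have hT := hL.2.1
  have hne := members_ne_bot (n := 1) hL
  have hint := isIntegral_total hT hρ
  have hfl := flat_rho hT hne hρ
  have hgen := rho_genericPoint (n := 1) hT hne hρ
  have hfin := isFinite_rho hL hρ hdim
  have hT0 : {c : k | ¬ Transversal k 1 1 (secToSpec i {F + c • G})}.Finite := hL.2.2.1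
  have hred : ∀ (c : k) (a : Fin (1 + 1)) {H : Form r k 1} (m : Sec i {H} ⟶ X')
      (hm : IsPullback m (secToSpec i {H}) ρ (pt a c)) (hH : Transversal k 1 1 (secToSpec i {H}))
      (B : Type u) [CommRing B] [Algebra k[X] B] (j : Spec (CommRingCat.of B) ⟶ X')
      (hj : IsPullback j (Spec.map (CommRingCat.ofHom (algebraMap k[X] B))) ρ (SimpFib.v a k)),
      IsReduced (B ⧸ Ideal.span {algebraMap k[X] B (Polynomial.X - C c)}) := by
    intro c a H m hm hH B _ _ j hj
    obtain ⟨e, -⟩ := SimpFib.exists_iso a c hm B j hj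
    have hs : Smooth (secToSpec i {H}) := by
      rcases hH with ⟨-, h⟩ | ⟨h, -⟩
      · exact h.smooth
      · omega
    exact SimpFib.isReduced_of_iso (secToSpec i {H}) e
  refine ⟨hT0.toFinset.card, fun x => (hT0.toFinset.equivFin.symm x).1, ⟨hfin, ?_, ?_⟩, ?_⟩
  · intro B _ _ j hj
    obtain ⟨hjo, hBd⟩ := isDomain_chart 0 B j hgen hj
    have h1 : IsFinite (Spec.map (CommRingCat.ofHom (algebraMap k[X] B))) :=
      MorphismProperty.of_isPullback hj hfin
    have h2 : Flat (Spec.map (CommRingCat.ofHom (algebraMap k[X] B))) :=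
      MorphismProperty.of_isPullback hj hfl
    have h3 : Module.Finite k[X] B := RingHom.finite_algebraMap.1 ((IsFinite.SpecMap_iff _).1 h1)
    have h4 : Module.Flat k[X] B := RingHom.flat_algebraMap_iff.1 (Flat.SpecMap_iff.1 h2)
    have h5 : Module.Free k[X] B := Module.free_of_finite_type_torsion_free'
    let _ : Algebra k B := ((algebraMap k[X] B).comp C).toAlgebra
    have htow : IsScalarTower k k[X] B := IsScalarTower.of_algebraMap_eq' rfl
    have hcl : IsIntegrallyClosed B := isIntegrallyClosed_chart j g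
    have hsq : Squarefree (Algebra.discr k[X] (Module.Free.chooseBasis k[X] B)) := by
      refine hD k B fun c => ?_
      by_cases hc : Transversal k 1 1 (secToSpec i {F + c • G})
      · obtain ⟨m, -, hm⟩ := isPullback_line hρ c
        rw [fieldPt_eq] at hm
        have := hred c 0 m hm hc B j hj
        exact SimpAlg.finrank_quot_le_of_isReduced _
      · obtain ⟨y, hy1, hy2⟩ := hL.2.2.2 (F + c • G) (Or.inr ⟨c, rfl⟩) hc
        obtain ⟨m, -, hm⟩ := isPullback_line hρ c
        rw [fieldPt_eq] at hm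
        obtain ⟨e, he⟩ := SimpFib.exists_iso 0 c hm B j hj
        have := SimpAlg.finite_quot (k := k) (B := B) c
        exact SimpAlg.finrank_quot_le _ (SimpFib.finrank_le_of_iso _ _ e he y hy1 hy2)
    refine ⟨fun x y hxy => hT0.toFinset.equivFin.symm.injective (Subtype.ext hxy), h3, h5, ?_⟩
    refine SimpAlg.dvd_prod _ hsq _ fun c hc => ?_
    have hcT : c ∈ hT0.toFinset := by
      rw [Set.Finite.mem_toFinset]
      intro hcT
      obtain ⟨m, -, hm⟩ := isPullback_line hρ c
      rw [fieldPt_eq] at hm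
      exact SimpAlg.eval_discr_ne_zero _ c (hred c 0 m hm hcT B j hj) hc
    exact ⟨hT0.toFinset.equivFin ⟨c, hcT⟩, by simp⟩
  · intro B _ _ j hj
    obtain ⟨m, -, hm⟩ := isPullback_lineInf hρ
    have h := hred 0 1 m hm hG B j hj
    rwa [C_0, sub_zero] at h
  · intro x hx
    have h1 := (hT0.toFinset.equivFin.symm x).2
    rw [Set.Finite.mem_toFinset] at h1
    apply h1
    change (hT0.toFinset.equivFin.symm x).1 = 0 at hx
    rw [hx, zero_smul, add_zero]
    exact hF

theorem main (hD : DiscStmt.{u}) : SimpleStmt.{u} := by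
  intro k _ _ _ X q _ _ _ hdim
  obtain ⟨r, i, hi, hiq⟩ :=
    Groth.Agent.CalgB.ProjField.exists_closedImmersion_projSpace_of_dim_le_one q hdim.le
  have hsm : SmoothOfRelativeDimension 1 (i ≫ CohB1.ProjSpace.toSpec r k) := by
    rw [hiq]
    exact K911.Geo.smoothOfRelativeDimension q (by simpa using hdim)
  obtain ⟨f, -, ⟨v, hv⟩, hf⟩ := Groth.Agent.S4020.result k r 1 le_rfl i
  have hL : IsLefschetzPencil k 1 i 1 v.1 v.2 := hf v hv
  obtain ⟨c, hc⟩ := hL.2.2.1.infinite_compl.nonempty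
  have hc' : Transversal k 1 1 (secToSpec i {v.1 + c • v.2}) := not_not.1 hc
  obtain ⟨F, -, hL1, hF, -⟩ := Groth.Agent.Lefpen.H9.PencilRed.exists_reduction i 1 hL (Or.inr ⟨c, rfl⟩) hc'
  obtain ⟨X', b, ρ, hρ⟩ := Groth.Agent.Lefpen.H711.BaseReg.exists_isPencilFibration i 1 hF hc' hL1.2.1
  have htop : secIdeal i {F, v.1 + c • v.2} = ⊤ := by
    rcases hL1.2.1 with ⟨h, -⟩ | ⟨-, h⟩
    · omega
    · rw [← Scheme.IdealSheafData.support_eq_bot_iff]
      ext x
      have h1 : x ∈ ((secIdeal i {F, v.1 + c • v.2}).support : Set X) ↔ False := by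
        rw [← Scheme.IdealSheafData.range_subschemeι]
        exact ⟨fun ⟨y, _⟩ => h.elim y, False.elim⟩
      exact h1
  have hb : IsIso b := Groth.Agent.Divis.BlowUpFormal.isIso_of_isBlowUp_of_isEff hρ.1
    (by rw [htop]; exact isEff_top X)
  have hsm' : Smooth (b ≫ q) := inferInstance
  have hdim' : topologicalKrullDim X' = 1 := by
    rw [← hdim]
    exact IsHomeomorph.topologicalKrullDim_eq _ b.homeomorph.isHomeomorph
  obtain ⟨n, β, h1, h2⟩ := core hD hL1 hρ hF hc' (b ≫ q) hdim'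
  refine ⟨inv b ≫ ρ, n, β, ?_, isSimpMor_iso (inv b) ρ h1, h2⟩
  rw [Category.assoc, hρ.2.1, IsIso.inv_hom_id_assoc, hiq]

end K376.SimpMain
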